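import Mathlib.Algebra.Category.Ring.FilteredColimits
import Mathlib.CategoryTheory.Limits.Types.Filtered
import Mathlib.CategoryTheory.Limits.Shapes.Pullback.IsPullback.Defs
import Mathlib.CategoryTheory.Comma.Over.Basic
import Mathlib.Algebra.Algebra.Subalgebra.Basic
import Mathlib.RingTheory.FinitePresentation
import Mathlib.RingTheory.Ideal.Quotient.Operations
import Mathlib.Algebra.Category.Ring.Constructions

universe u

open CategoryTheory Limits

namespace Groth.Agent.LimFP

section cat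

variable {R : CommRingCat.{u}} {ι : Type u} [Preorder ι] [IsDirectedOrder ι] [Nonempty ι]

/-- Recognising a filtered colimit in an under category of rings. -/
theorem isColimit_of (D : ι ⥤ Under R) (c : Cocone D)
    (hsurj : ∀ x : c.pt.right, ∃ (j : ι) (y : (D.obj j).right), (c.ι.app j).right y = x)
    (hinj : ∀ (j : ι) (y z : (D.obj j).right), (c.ι.app j).right y = (c.ι.app j).right z →
      ∃ (k : ι) (h : j ≤ k), (D.map (homOfLE h)).right y = (D.map (homOfLE h)).right z) :
    Nonempty (IsColimit c) := by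
  haveI : IsFiltered ι := isFiltered_of_directed_le_nonempty ι
  let c' := (Under.forget R).mapCocone c
  let h1 : IsColimit ((forget CommRingCat).mapCocone c') :=
    Types.FilteredColimit.isColimitOf' _ _
      (fun x => by obtain ⟨j, y, hy⟩ := hsurj x; exact ⟨j, y, hy.symm⟩)
      (fun j y z h => by
        obtain ⟨k, hk, e⟩ := hinj j y z h
        exact ⟨k, homOfLE hk, e⟩)
  haveI : ReflectsColimit (D ⋙ Under.forget R) (forget CommRingCat) :=
    reflectsColimit_of_reflectsIsomorphisms _ _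
  let h2 : IsColimit c' := isColimitOfReflects (forget CommRingCat) h1
  refine ⟨{
    desc := fun s => Under.homMk (h2.desc ((Under.forget R).mapCocone s)) ?_
    fac := fun s j => ?_
    uniq := fun s m hm => ?_ }⟩
  · have j : ι := Classical.arbitrary ι
    have e := h2.fac ((Under.forget R).mapCocone s) j
    have e1 : (D.obj j).hom ≫ (c.ι.app j).right = c.pt.hom := Under.w _
    rw [← e1]
    exact (Category.assoc _ _ _).trans ((congrArg _ e).trans (Under.w _))
  · ext : 1
    exact h2.fac ((Under.forget R).mapCocone s) j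
  · ext : 1
    refine h2.uniq ((Under.forget R).mapCocone s) m.right fun j => ?_
    exact congrArg (Under.forget R).map (hm j)

end cat

section alg

variable {R : Type u} [CommRing R] {B D D' B₂ D₂ D₂' : Type u} [CommRing B] [CommRing D]
  [CommRing D'] [Algebra R B] [Algebra R D] [Algebra R D'] [CommRing B₂] [CommRing D₂]
  [CommRing D₂'] [Algebra R B₂] [Algebra R D₂] [Algebra R D₂']

/-- The object of the under category attached to an algebra. -/
abbrev U (A : Type u) [CommRing A] [Algebra R A] : Under (CommRingCat.of R) :=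
  Under.mk (CommRingCat.ofHom (algebraMap R A))

/-- The morphism of the under category attached to an algebra map. -/
def Uhom (g : B →ₐ[R] D) : U (R := R) B ⟶ U (R := R) D :=
  Under.homMk (CommRingCat.ofHom g.toRingHom) (CommRingCat.hom_ext g.comp_algebraMap)

@[simp] lemma Uhom_apply (g : B →ₐ[R] D) (x : B) : (Uhom g).right x = g x := rfl

lemma Uhom_ext {g : U (R := R) B ⟶ U (R := R) D} {h : U (R := R) B ⟶ U (R := R) D}
    (e : ∀ x, g.right x = h.right x) : g = h := by
  ext x
  exact e x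

lemma fp_hom [Algebra.FinitePresentation R B] : (U (R := R) B).hom.hom.FinitePresentation :=
  show (algebraMap R B).FinitePresentation from RingHom.finitePresentation_algebraMap.2 ‹_›

/-- The fibre product of two algebra maps. -/
abbrev Pb (φ : B →ₐ[R] D) (ψ : D' →ₐ[R] D) : Subalgebra R (B × D') :=
  AlgHom.equalizer (φ.comp (AlgHom.fst R B D')) (ψ.comp (AlgHom.snd R B D'))

/-- The first projection. -/
def pbFst (φ : B →ₐ[R] D) (ψ : D' →ₐ[R] D) : Pb φ ψ →ₐ[R] B :=
  (AlgHom.fst R B D').comp (Pb φ ψ).val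

/-- The second projection. -/
def pbSnd (φ : B →ₐ[R] D) (ψ : D' →ₐ[R] D) : Pb φ ψ →ₐ[R] D' :=
  (AlgHom.snd R B D').comp (Pb φ ψ).val

/-- Functoriality of the fibre product. -/
def pbMap {φ : B →ₐ[R] D} {ψ : D' →ₐ[R] D} {φ₂ : B₂ →ₐ[R] D₂} {ψ₂ : D₂' →ₐ[R] D₂}
    (β : B →ₐ[R] B₂) (δ : D →ₐ[R] D₂) (δ' : D' →ₐ[R] D₂')
    (h1 : φ₂.comp β = δ.comp φ) (h2 : ψ₂.comp δ' = δ.comp ψ) : Pb φ ψ →ₐ[R] Pb φ₂ ψ₂ :=
  (((β.comp (pbFst φ ψ)).prod (δ'.comp (pbSnd φ ψ)))).codRestrict _ fun x => by
    show φ₂ (β x.1.1) = ψ₂ (δ' x.1.2)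
    rw [show φ₂ (β x.1.1) = δ (φ x.1.1) from AlgHom.congr_fun h1 _,
      show ψ₂ (δ' x.1.2) = δ (ψ x.1.2) from AlgHom.congr_fun h2 _]
    exact congrArg δ x.2

lemma isPullback_pb (φ : B →ₐ[R] D) (ψ : D' →ₐ[R] D) :
    IsPullback (CommRingCat.ofHom (pbFst φ ψ).toRingHom) (CommRingCat.ofHom (pbSnd φ ψ).toRingHom)
      (CommRingCat.ofHom φ.toRingHom) (CommRingCat.ofHom ψ.toRingHom) := by
  have w : CommRingCat.ofHom (pbFst φ ψ).toRingHom ≫ CommRingCat.ofHom φ.toRingHom =
      CommRingCat.ofHom (pbSnd φ ψ).toRingHom ≫ CommRingCat.ofHom ψ.toRingHom := by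
    ext x; exact x.2
  refine IsPullback.of_isLimit' ⟨w⟩ (PullbackCone.IsLimit.mk w
    (fun s => CommRingCat.ofHom ((s.fst.hom.prod s.snd.hom).codRestrict (Pb φ ψ) fun x =>
      congrArg (fun g => (CommRingCat.Hom.hom g) x) s.condition))
    (fun s => by ext x; rfl) (fun s => by ext x; rfl) (fun s m e₁ e₂ => ?_))
  refine CommRingCat.hom_ext (RingHom.ext fun x => Subtype.ext (Prod.ext ?_ ?_))
  · exact congrArg (fun g => (CommRingCat.Hom.hom g) x) e₁
  · exact congrArg (fun g => (CommRingCat.Hom.hom g) x) e₂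

end alg

end Groth.Agent.LimFP
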