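import Groth.Agent.LimFP.NilPair
import Mathlib.RingTheory.IntegralClosure.IsIntegralClosure.Basic
import Mathlib.RingTheory.Finiteness.Basic
import Mathlib.RingTheory.FiniteType

/-!
# A pair of integral algebras is a filtered colimit of pairs of finite finitely presented ones
-/

universe u

open CategoryTheory Limits MvPolynomial

noncomputable section

namespace Groth.Agent.LimFP

variable {A B C' : Type u} [CommRing A] [CommRing B] [CommRing C'] [Algebra A B] [Algebra A C']

variable (f : B →ₐ[A] C')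

/-- The properties at a finite level. -/
structure IProps (sB : Finset B) (sC : Finset C') (h : ∀ b ∈ sB, f b ∈ sC) (I : Ideal (MP A sB))
    (L : Ideal (MP A sC)) : Prop where
  intB : ∀ x : ↥sB, ∃ p : Polynomial A, p.Monic ∧ Polynomial.aeval (X x : MP A sB) p ∈ I
  intC : ∀ x : ↥sC, ∃ p : Polynomial A, p.Monic ∧ Polynomial.aeval (X x : MP A sC) p ∈ L
  surjAB : Function.Surjective (algebraMap A B) → ∀ x : ↥sB, ∃ a, X x - MvPolynomial.C a ∈ I
  surjAC : Function.Surjective (algebraMap A C') → ∀ x : ↥sC, ∃ a, X x - MvPolynomial.C a ∈ L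
  surjBC : Function.Surjective f → ∀ d : ↥sC, ∃ p, X d - phi f h p ∈ L
  nilBC : Function.Surjective f → IsNilpotent (RingHom.ker f.toRingHom) →
    ∃ n, (L.comap (phi f h)) ^ n ≤ I

/-- The index set. -/
structure IIdx where
  sB : Finset B
  sC : Finset C'
  hl : ∀ b ∈ sB, f b ∈ sC
  I : Ideal (MP A sB)
  L : Ideal (MP A sC)
  hI : I.FG
  hL : L.FG
  kI : I ≤ RingHom.ker (ev sB)
  kL : L ≤ RingHom.ker (ev sC)
  hIL : I.map (phi f hl) ≤ L
  props : IProps f sB sC hl I L

variable {f}

instance : LE (IIdx f) := ⟨fun a b => ∃ (hB : a.sB ⊆ b.sB) (hC : a.sC ⊆ b.sC),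
  a.I ≤ b.I.comap (inc hB) ∧ a.L ≤ b.L.comap (inc hC)⟩

instance : Preorder (IIdx f) where
  le := (· ≤ ·)
  le_refl a := ⟨subset_refl _, subset_refl _,
    fun x hx => by rw [Ideal.mem_comap, inc_refl]; exact hx,
    fun x hx => by rw [Ideal.mem_comap, inc_refl]; exact hx⟩
  le_trans a b c := by
    rintro ⟨h1, h2, e1, e2⟩ ⟨h1', h2', e1', e2'⟩
    exact ⟨h1.trans h1', h2.trans h2',
      fun x hx => by rw [Ideal.mem_comap, ← inc_trans h1 h1']; exact e1' (e1 hx),
      fun x hx => by rw [Ideal.mem_comap, ← inc_trans h2 h2']; exact e2' (e2 hx)⟩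

lemma ev_phiI {s : Finset B} {t : Finset C'} (h : ∀ b ∈ s, f b ∈ t) (p : MP A s) :
    ev t (phi f h p) = f (ev s p) :=
  ev_phi f (AlgHom.id A C') f (fun _ => rfl) h p

theorem exists_iidx [Algebra.IsIntegral A B] [Algebra.IsIntegral A C'] (sB : Finset B)
    (sC : Finset C') (I : Ideal (MP A sB)) (L : Ideal (MP A sC)) (hI : I.FG) (hL : L.FG)
    (kI : I ≤ RingHom.ker (ev sB)) (kL : L ≤ RingHom.ker (ev sC)) :
    ∃ (k : IIdx f) (hB : sB ⊆ k.sB) (hC : sC ⊆ k.sC),
      I.map (inc hB) ≤ k.I ∧ L.map (inc hC) ≤ k.L := by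
  classical
  let g : C' → B := fun d => if h : ∃ b, f b = d then h.choose else 0
  have hg : Function.Surjective f → ∀ d, f (g d) = d := fun hs d => by
    simp only [g, dif_pos (hs d)]; exact (hs d).choose_spec
  let sB' : Finset B := sB ∪ sC.image g
  let sC' : Finset C' := sC ∪ sB'.image f
  have hBB : sB ⊆ sB' := Finset.subset_union_left
  have hgB : ∀ d ∈ sC, g d ∈ sB' := fun d hd =>
    Finset.mem_union_right _ (Finset.mem_image_of_mem _ hd)
  have hCC : sC ⊆ sC' := Finset.subset_union_left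
  have hl : ∀ b ∈ sB', f b ∈ sC' := fun b hb =>
    Finset.mem_union_right _ (Finset.mem_image_of_mem _ hb)
  have hcl : ∀ d : ↥sC', (d : C') ∈ sC ∨ ∃ b : ↥sB', f b = (d : C') := by
    rintro ⟨d, hd⟩
    rcases Finset.mem_union.1 hd with h | h
    · exact Or.inl h
    · obtain ⟨b, hb, hbd⟩ := Finset.mem_image.1 h
      exact Or.inr ⟨⟨b, hb⟩, hbd⟩
  clear_value sB' sC'
  -- relations on the source
  have hrB : ∀ x : ↥sB', ∃ u v : MP A sB', ev sB' u = 0 ∧ ev sB' v = 0 ∧
      (∃ p : Polynomial A, p.Monic ∧ Polynomial.aeval (X x) p = u) ∧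
      (Function.Surjective (algebraMap A B) → ∃ a, X x - MvPolynomial.C a = v) := by
    intro x
    obtain ⟨p, hp, hpx⟩ := Algebra.IsIntegral.isIntegral (R := A) (x : B)
    have h1 : ev (R := A) sB' (Polynomial.aeval (X x) p) = 0 := by
      rw [← Polynomial.aeval_algHom_apply, show ev (R := A) sB' (X x) = x from aeval_X _ _]
      exact hpx
    by_cases hs : Function.Surjective (algebraMap A B)
    · obtain ⟨a, ha⟩ := hs x
      exact ⟨_, X x - MvPolynomial.C a, h1, by simp [ev, ha], ⟨p, hp, rfl⟩, fun _ => ⟨a, rfl⟩⟩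
    · exact ⟨_, 0, h1, map_zero _, ⟨p, hp, rfl⟩, fun h => absurd h hs⟩
  choose uB vB huB hvB hpB haB using hrB
  -- relations on the target
  have hrC : ∀ x : ↥sC', ∃ u v w : MP A sC', ev sC' u = 0 ∧ ev sC' v = 0 ∧ ev sC' w = 0 ∧
      (∃ p : Polynomial A, p.Monic ∧ Polynomial.aeval (X x) p = u) ∧
      (Function.Surjective (algebraMap A C') → ∃ a, X x - MvPolynomial.C a = v) ∧
      (Function.Surjective f → ∃ p, X x - phi f hl p = w) := by
    intro x
    obtain ⟨p, hp, hpx⟩ := Algebra.IsIntegral.isIntegral (R := A) (x : C')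
    have h1 : ev (R := A) sC' (Polynomial.aeval (X x) p) = 0 := by
      rw [← Polynomial.aeval_algHom_apply, show ev (R := A) sC' (X x) = x from aeval_X _ _]
      exact hpx
    have h3 : ∃ w : MP A sC', ev sC' w = 0 ∧
        (Function.Surjective f → ∃ p, X x - phi f hl p = w) := by
      rcases hcl x with hx | ⟨b, hb⟩
      · by_cases hs : Function.Surjective f
        · exact ⟨X x - phi f hl (X ⟨g x, hgB _ hx⟩), by simp [ev, phi, hg hs], fun _ => ⟨_, rfl⟩⟩
        · exact ⟨0, map_zero _, fun h => absurd h hs⟩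
      · exact ⟨X x - phi f hl (X b), by simp [ev, phi, hb], fun _ => ⟨_, rfl⟩⟩
    obtain ⟨w, hw, hw'⟩ := h3
    by_cases hs : Function.Surjective (algebraMap A C')
    · obtain ⟨a, ha⟩ := hs x
      exact ⟨_, X x - MvPolynomial.C a, w, h1, by simp [ev, ha], hw, ⟨p, hp, rfl⟩,
        fun _ => ⟨a, rfl⟩, hw'⟩
    · exact ⟨_, 0, w, h1, map_zero _, hw, ⟨p, hp, rfl⟩, fun h => absurd h hs, hw'⟩
  choose uC vC wC huC hvC hwC hpC haC hbC using hrC
  let I1 : Ideal (MP A sB') := I.map (inc hBB) ⊔ Ideal.span (Set.range uB ∪ Set.range vB)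
  have fI1 : I1.FG := Submodule.FG.sup (hI.map _)
    (Submodule.fg_span ((Set.finite_range _).union (Set.finite_range _)))
  have kI1 : I1 ≤ RingHom.ker (ev sB') := by
    refine sup_le (Ideal.map_le_iff_le_comap.2 fun x hx => (ev_inc hBB x).trans (kI hx)) ?_
    rw [Ideal.span_le]
    rintro _ (⟨x, rfl⟩ | ⟨x, rfl⟩)
    exacts [huB x, hvB x]
  let L1 : Ideal (MP A sC') := L.map (inc hCC) ⊔ I1.map (phi f hl) ⊔
    Ideal.span (Set.range uC ∪ Set.range vC ∪ Set.range wC)
  have fL1 : L1.FG := Submodule.FG.sup (Submodule.FG.sup (hL.map _) (fI1.map _))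
    (Submodule.fg_span (((Set.finite_range _).union (Set.finite_range _)).union (Set.finite_range _)))
  have kL1 : L1 ≤ RingHom.ker (ev sC') := by
    refine sup_le (sup_le (Ideal.map_le_iff_le_comap.2 fun x hx => (ev_inc hCC x).trans (kL hx))
      (Ideal.map_le_iff_le_comap.2 fun x hx => ?_)) ?_
    · show ev sC' (phi f hl x) = 0
      rw [ev_phiI, show ev sB' x = 0 from kI1 hx, map_zero]
    · rw [Ideal.span_le]
      rintro _ ((⟨x, rfl⟩ | ⟨x, rfl⟩) | ⟨x, rfl⟩)
      exacts [huC x, hvC x, hwC x]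
  have mem : ∀ {w}, w ∈ Set.range uC ∪ Set.range vC ∪ Set.range wC → w ∈ L1 :=
    fun h => Ideal.mem_sup_right (Ideal.subset_span h)
  -- enlarge `I` by a power of the kernel
  have hI2 : ∃ I2 : Ideal (MP A sB'), I2.FG ∧ I2 ≤ RingHom.ker (ev sB') ∧ I1 ≤ I2 ∧
      I2.map (phi f hl) ≤ L1 ∧
      (Function.Surjective f → IsNilpotent (RingHom.ker f.toRingHom) →
        ∃ n, (L1.comap (phi f hl)) ^ n ≤ I2) := by
    have m1 : I1.map (phi f hl) ≤ L1 := le_sup_of_le_left le_sup_right
    by_cases h : Function.Surjective f ∧ IsNilpotent (RingHom.ker f.toRingHom)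
    · obtain ⟨hs, n, hn⟩ := h
      have : Algebra.FinitePresentation A (MP A sC' ⧸ L1) := Algebra.FinitePresentation.quotient fL1
      have hsurj : Function.Surjective ((Ideal.Quotient.mkₐ A L1).comp (phi f hl)) := by
        rw [← AlgHom.range_eq_top, eq_top_iff, ← Algebra.range_id]
        rintro z -
        obtain ⟨z, rfl⟩ := Ideal.Quotient.mkₐ_surjective A L1 z
        induction z using MvPolynomial.induction_on with
        | C r => exact ⟨MvPolynomial.C r, by simp [phi]⟩
        | add p p' hp hp' => rw [map_add]; exact add_mem hp hp'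
        | mul_X p d hp =>
          rw [map_mul]
          refine mul_mem hp ?_
          obtain ⟨p', hp'⟩ := hbC d hs
          refine ⟨p', ?_⟩
          symm
          show Ideal.Quotient.mk L1 (X d) = Ideal.Quotient.mk L1 (phi f hl p')
          rw [Ideal.Quotient.eq, hp']
          exact mem (Or.inr ⟨d, rfl⟩)
      have hK : (L1.comap (phi f hl)).FG := by
        have := Algebra.FinitePresentation.ker_fG_of_surjective _ hsurj
        have e : RingHom.ker ((Ideal.Quotient.mkₐ A L1).comp (phi f hl)).toRingHom =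
            L1.comap (phi f hl) := by
          refine Ideal.ext fun x => ?_
          simp [RingHom.mem_ker, Ideal.Quotient.eq_zero_iff_mem]
        exact e ▸ this
      have hle : (L1.comap (phi f hl)).map (ev sB') ≤ RingHom.ker f.toRingHom := by
        rw [Ideal.map_le_iff_le_comap]
        intro x hx
        show f (ev sB' x) = 0
        rw [← ev_phiI hl]
        exact kL1 hx
      refine ⟨I1 ⊔ (L1.comap (phi f hl)) ^ (n + 1), Submodule.FG.sup fI1 (Ideal.FG.pow hK),
        sup_le kI1 ?_, le_sup_left, ?_, fun _ _ => ⟨n + 1, le_sup_right⟩⟩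
      · intro x hx
        have h1 := Ideal.mem_map_of_mem (ev sB') hx
        rw [Ideal.map_pow] at h1
        have h2 := Ideal.pow_right_mono hle (n + 1) h1
        rw [pow_succ, hn] at h2
        simpa using h2
      · rw [Ideal.map_sup]
        refine sup_le m1 (le_trans (Ideal.map_mono (Ideal.pow_le_self n.succ_ne_zero)) ?_)
        exact Ideal.map_comap_le
    · exact ⟨I1, fI1, kI1, le_rfl, m1, fun hs hn => absurd ⟨hs, hn⟩ h⟩
  obtain ⟨I2, fI2, kI2, hI12, mI2, nI2⟩ := hI2
  refine ⟨{ sB := sB', sC := sC', hl := hl, I := I2, L := L1, hI := fI2, hL := fL1, kI := kI2,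
            kL := kL1, hIL := mI2,
            props :=
            { intB := fun x => ?_, intC := fun x => ?_, surjAB := fun hs x => ?_,
              surjAC := fun hs x => ?_, surjBC := fun hs x => ?_, nilBC := nI2 } },
    hBB, hCC, le_sup_left.trans hI12, le_sup_of_le_left le_sup_left⟩
  · obtain ⟨p, hp, e⟩ := hpB x
    exact ⟨p, hp, e ▸ hI12 (Ideal.mem_sup_right (Ideal.subset_span (Or.inl ⟨x, rfl⟩)))⟩
  · obtain ⟨p, hp, e⟩ := hpC x
    exact ⟨p, hp, e ▸ mem (Or.inl (Or.inl ⟨x, rfl⟩))⟩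
  · obtain ⟨a, e⟩ := haB x hs
    exact ⟨a, e ▸ hI12 (Ideal.mem_sup_right (Ideal.subset_span (Or.inr ⟨x, rfl⟩)))⟩
  · obtain ⟨a, e⟩ := haC x hs
    exact ⟨a, e ▸ mem (Or.inl (Or.inr ⟨x, rfl⟩))⟩
  · obtain ⟨p, e⟩ := hbC x hs
    exact ⟨p, e ▸ mem (Or.inr ⟨x, rfl⟩)⟩

/-! ## The system -/

namespace IIdx

abbrev RB (j : IIdx f) : Type u := MP A j.sB ⧸ j.I
abbrev RC (j : IIdx f) : Type u := MP A j.sC ⧸ j.L

def hom (j : IIdx f) : j.RB →ₐ[A] j.RC :=
  Ideal.quotientMapₐ _ (phi f j.hl) (Ideal.map_le_iff_le_comap.1 j.hIL)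

variable {j k l : IIdx f} (h : j ≤ k) (h' : k ≤ l)

def mapB : j.RB →ₐ[A] k.RB := Ideal.quotientMapₐ _ (inc h.fst) h.snd.snd.1
def mapC : j.RC →ₐ[A] k.RC := Ideal.quotientMapₐ _ (inc h.snd.fst) h.snd.snd.2

lemma hom_mapB : k.hom.comp (mapB h) = (mapC h).comp j.hom := by
  refine Ideal.Quotient.algHom_ext A (AlgHom.ext fun p => ?_)
  show Ideal.Quotient.mk _ (phi f k.hl (inc h.fst p)) =
    Ideal.Quotient.mk _ (inc h.snd.fst (phi f j.hl p))
  rw [phi_inc f j.hl k.hl h.fst h.snd.fst]

def cB (j : IIdx f) : j.RB →ₐ[A] B := Ideal.Quotient.liftₐ _ (ev j.sB) fun _ hx => j.kI hx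
def cC (j : IIdx f) : j.RC →ₐ[A] C' := Ideal.Quotient.liftₐ _ (ev j.sC) fun _ hx => j.kL hx

lemma cB_mapB : (cB k).comp (mapB h) = cB j :=
  Ideal.Quotient.algHom_ext A (AlgHom.ext fun p => ev_inc h.fst p)

lemma cC_mapC : (cC k).comp (mapC h) = cC j :=
  Ideal.Quotient.algHom_ext A (AlgHom.ext fun p => ev_inc h.snd.fst p)

lemma cC_hom (j : IIdx f) : (cC j).comp j.hom = f.comp (cB j) :=
  Ideal.Quotient.algHom_ext A (AlgHom.ext fun p => ev_phiI j.hl p)

lemma mapB_refl (j : IIdx f) : mapB (le_refl j) = AlgHom.id A _ :=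
  Ideal.Quotient.algHom_ext A (AlgHom.ext fun p => by
    show Ideal.Quotient.mk _ (inc (subset_refl j.sB) p) = Ideal.Quotient.mk _ p
    rw [inc_refl])

lemma mapC_refl (j : IIdx f) : mapC (le_refl j) = AlgHom.id A _ :=
  Ideal.Quotient.algHom_ext A (AlgHom.ext fun p => by
    show Ideal.Quotient.mk _ (inc (subset_refl j.sC) p) = Ideal.Quotient.mk _ p
    rw [inc_refl])

lemma mapB_trans : mapB (h.trans h') = (mapB h').comp (mapB h) :=
  Ideal.Quotient.algHom_ext A (AlgHom.ext fun p => by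
    show Ideal.Quotient.mk _ (inc (h.trans h').fst p) = Ideal.Quotient.mk _ (inc h'.fst (inc h.fst p))
    rw [inc_trans h.fst h'.fst])

lemma mapC_trans : mapC (h.trans h') = (mapC h').comp (mapC h) :=
  Ideal.Quotient.algHom_ext A (AlgHom.ext fun p => by
    show Ideal.Quotient.mk _ (inc (h.trans h').snd.fst p) =
      Ideal.Quotient.mk _ (inc h'.snd.fst (inc h.snd.fst p))
    rw [inc_trans h.snd.fst h'.snd.fst])

end IIdx

open IIdx

variable (f)

def GB : IIdx f ⥤ Under (CommRingCat.of A) where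
  obj j := U j.RB
  map h := Uhom (mapB h.le)
  map_id j := by
    apply Uhom_ext; intro x
    exact AlgHom.congr_fun (mapB_refl j) x
  map_comp a b := by
    apply Uhom_ext; intro x
    exact AlgHom.congr_fun (mapB_trans a.le b.le) x

def GC : IIdx f ⥤ Under (CommRingCat.of A) where
  obj j := U j.RC
  map h := Uhom (mapC h.le)
  map_id j := by
    apply Uhom_ext; intro x
    exact AlgHom.congr_fun (mapC_refl j) x
  map_comp a b := by
    apply Uhom_ext; intro x
    exact AlgHom.congr_fun (mapC_trans a.le b.le) x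

omit [Algebra A B] in
theorem surjective_of_vars {s : Finset B} [Algebra A B] (I : Ideal (MP A s))
    (h : ∀ x : ↥s, ∃ a, X x - MvPolynomial.C a ∈ I) :
    Function.Surjective (algebraMap A (MP A s ⧸ I)) := by
  intro y
  obtain ⟨y, rfl⟩ := Ideal.Quotient.mk_surjective y
  have : Ideal.Quotient.mk I y ∈ (algebraMap A (MP A s ⧸ I)).range := by
    induction y using MvPolynomial.induction_on with
    | C r => exact ⟨r, rfl⟩
    | add p q hp hq => rw [map_add]; exact add_mem hp hq
    | mul_X p d hp =>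
      rw [map_mul]
      refine mul_mem hp ?_
      obtain ⟨a, ha⟩ := h d
      exact ⟨a, (Ideal.Quotient.eq.2 ha).symm⟩
  exact this

theorem finite_of_vars {s : Finset B} (I : Ideal (MP A s))
    (h : ∀ x : ↥s, ∃ p : Polynomial A, p.Monic ∧ Polynomial.aeval (X x : MP A s) p ∈ I) :
    Module.Finite A (MP A s ⧸ I) := by
  have : Algebra.IsIntegral A (MP A s ⧸ I) := ⟨fun y => by
    obtain ⟨y, rfl⟩ := Ideal.Quotient.mk_surjective y
    induction y using MvPolynomial.induction_on with
    | C r => exact isIntegral_algebraMap (x := r)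
    | add p q hp hq => rw [map_add]; exact hp.add hq
    | mul_X p d hp =>
      rw [map_mul]
      refine hp.mul ?_
      obtain ⟨q, hq, hq'⟩ := h d
      refine ⟨q, hq, ?_⟩
      show Polynomial.aeval (Ideal.Quotient.mkₐ A I (X d)) q = 0
      rw [Polynomial.aeval_algHom_apply]
      exact Ideal.Quotient.eq_zero_iff_mem.2 hq'⟩
  exact Algebra.IsIntegral.finite

theorem ker_nilpotent {S : Type u} [CommRing S] (g : A →+* S) {T : Type u} [CommRing T]
    (c : S →+* T) (t : A →+* T) (hc : c.comp g = t) (h : IsNilpotent (RingHom.ker t)) :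
    IsNilpotent (RingHom.ker g) := by
  obtain ⟨n, hn⟩ := h
  refine ⟨n, eq_bot_iff.2 ?_⟩
  have : RingHom.ker g ≤ RingHom.ker t := fun x hx => by
    rw [RingHom.mem_ker, ← hc, RingHom.comp_apply, RingHom.mem_ker.1 hx, map_zero]
  exact (Ideal.pow_right_mono this n).trans hn.le

theorem intPair [Algebra.IsIntegral A B] [Algebra.IsIntegral A C'] :
    ∃ (ι : Type u) (_ : SmallCategory ι) (_ : IsFiltered ι) (DB DC : ι ⥤ Under (CommRingCat.of A))
      (τ : DB ⟶ DC)
      (cB : DB ⟶ (Functor.const ι).obj (Under.mk (CommRingCat.ofHom (algebraMap A B))))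
      (cC : DC ⟶ (Functor.const ι).obj (Under.mk (CommRingCat.ofHom (algebraMap A C')))),
      Nonempty (IsColimit (Cocone.mk _ cB)) ∧ Nonempty (IsColimit (Cocone.mk _ cC)) ∧
      (∀ i, (τ.app i).right ≫ (cC.app i).right = (cB.app i).right ≫ CommRingCat.ofHom f.toRingHom) ∧
      (∀ i, (DB.obj i).hom.hom.Finite ∧ (DB.obj i).hom.hom.FinitePresentation ∧
        (DC.obj i).hom.hom.Finite ∧ (DC.obj i).hom.hom.FinitePresentation) ∧
      (Function.Surjective (algebraMap A B) → ∀ i, Function.Surjective (DB.obj i).hom.hom) ∧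
      (Function.Surjective f → ∀ i, Function.Surjective (τ.app i).right.hom) ∧
      (Function.Surjective (algebraMap A C') → ∀ i, Function.Surjective (DC.obj i).hom.hom) ∧
      (Function.Surjective (algebraMap A B) → IsNilpotent (RingHom.ker (algebraMap A B)) →
        ∀ i, Function.Surjective (DB.obj i).hom.hom ∧ IsNilpotent (RingHom.ker (DB.obj i).hom.hom)) ∧
      (Function.Surjective f → IsNilpotent (RingHom.ker f.toRingHom) →
        ∀ i, Function.Surjective (τ.app i).right.hom ∧ IsNilpotent (RingHom.ker (τ.app i).right.hom)) ∧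
      (Function.Surjective (algebraMap A C') → IsNilpotent (RingHom.ker (algebraMap A C')) →
        ∀ i, Function.Surjective (DC.obj i).hom.hom ∧ IsNilpotent (RingHom.ker (DC.obj i).hom.hom)) := by
  classical
  have hne : Nonempty (IIdx f) := by
    obtain ⟨k, -⟩ := exists_iidx (f := f) ∅ ∅ ⊥ ⊥ Submodule.fg_bot Submodule.fg_bot bot_le bot_le
    exact ⟨k⟩
  have hdir : IsDirectedOrder (IIdx f) := ⟨fun a b => by
    have ka : a.sB ⊆ a.sB ∪ b.sB := Finset.subset_union_left
    have kb : b.sB ⊆ a.sB ∪ b.sB := Finset.subset_union_right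
    have la : a.sC ⊆ a.sC ∪ b.sC := Finset.subset_union_left
    have lb : b.sC ⊆ a.sC ∪ b.sC := Finset.subset_union_right
    obtain ⟨k, hB, hC, e1, e2⟩ := exists_iidx (f := f) (a.sB ∪ b.sB) (a.sC ∪ b.sC)
      (a.I.map (inc ka) ⊔ b.I.map (inc kb)) (a.L.map (inc la) ⊔ b.L.map (inc lb))
      (Submodule.FG.sup (a.hI.map _) (b.hI.map _)) (Submodule.FG.sup (a.hL.map _) (b.hL.map _))
      (sup_le (Ideal.map_le_iff_le_comap.2 fun x hx => (ev_inc ka x).trans (a.kI hx))
        (Ideal.map_le_iff_le_comap.2 fun x hx => (ev_inc kb x).trans (b.kI hx)))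
      (sup_le (Ideal.map_le_iff_le_comap.2 fun x hx => (ev_inc la x).trans (a.kL hx))
        (Ideal.map_le_iff_le_comap.2 fun x hx => (ev_inc lb x).trans (b.kL hx)))
    refine ⟨k, ⟨ka.trans hB, la.trans hC, ?_, ?_⟩, ⟨kb.trans hB, lb.trans hC, ?_, ?_⟩⟩
    · intro x hx
      rw [Ideal.mem_comap, ← inc_trans ka hB]
      exact e1 (Ideal.mem_map_of_mem _ (Ideal.mem_sup_left (Ideal.mem_map_of_mem _ hx)))
    · intro x hx
      rw [Ideal.mem_comap, ← inc_trans la hC]
      exact e2 (Ideal.mem_map_of_mem _ (Ideal.mem_sup_left (Ideal.mem_map_of_mem _ hx)))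
    · intro x hx
      rw [Ideal.mem_comap, ← inc_trans kb hB]
      exact e1 (Ideal.mem_map_of_mem _ (Ideal.mem_sup_right (Ideal.mem_map_of_mem _ hx)))
    · intro x hx
      rw [Ideal.mem_comap, ← inc_trans lb hC]
      exact e2 (Ideal.mem_map_of_mem _ (Ideal.mem_sup_right (Ideal.mem_map_of_mem _ hx)))⟩
  have : IsFiltered (IIdx f) := isFiltered_of_directed_le_nonempty _
  have finB : ∀ j : IIdx f, Module.Finite A j.RB := fun j => finite_of_vars _ j.props.intB
  have finC : ∀ j : IIdx f, Module.Finite A j.RC := fun j => finite_of_vars _ j.props.intC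
  refine ⟨IIdx f, inferInstance, inferInstance, GB f, GC f,
    { app := fun j => Uhom j.hom
      naturality := fun a b h => Uhom_ext fun x => AlgHom.congr_fun (hom_mapB h.le) x },
    { app := fun j => Uhom (cB j)
      naturality := fun a b h => Uhom_ext fun x => AlgHom.congr_fun (cB_mapB h.le) x },
    { app := fun j => Uhom (cC j)
      naturality := fun a b h => Uhom_ext fun x => AlgHom.congr_fun (cC_mapC h.le) x },
    ?_, ?_, fun j => ?_, fun j => ⟨?_, ?_, ?_, ?_⟩, ?_, ?_, ?_, ?_, ?_, ?_⟩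
  · refine isColimit_of _ _ (fun (x : B) => ?_) fun j y z h => ?_
    · obtain ⟨k, hB, -, -⟩ := exists_iidx (f := f) {x} ∅ ⊥ ⊥ Submodule.fg_bot Submodule.fg_bot bot_le bot_le
      exact ⟨k, Ideal.Quotient.mk _ (X ⟨x, hB (Finset.mem_singleton_self x)⟩),
        aeval_X (R := A) (fun y : ↥k.sB => (y : B)) ⟨x, hB (Finset.mem_singleton_self x)⟩⟩
    · obtain ⟨p, hp⟩ := Ideal.Quotient.mk_surjective (I := j.I) (y - z)
      have h0 : ev j.sB p = 0 := by
        show cB j (Ideal.Quotient.mk _ p) = 0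
        rw [hp]
        exact (map_sub _ _ _).trans (sub_eq_zero.2 h)
      obtain ⟨k, hB, hC, e1, e2⟩ := exists_iidx (f := f) j.sB j.sC (j.I ⊔ Ideal.span {p}) j.L
        (Submodule.FG.sup j.hI (Submodule.fg_span_singleton p)) j.hL
        (sup_le j.kI (by rw [Ideal.span_le, Set.singleton_subset_iff]; exact h0)) j.kL
      have hjk : j ≤ k := ⟨hB, hC, fun x hx => e1 (Ideal.mem_map_of_mem _ (Ideal.mem_sup_left hx)),
        Ideal.map_le_iff_le_comap.1 e2⟩
      have e : mapB hjk (y - z) = 0 := by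
        rw [← hp]
        exact Ideal.Quotient.eq_zero_iff_mem.2
          (e1 (Ideal.mem_map_of_mem _ (Ideal.mem_sup_right (Ideal.mem_span_singleton_self p))))
      exact ⟨k, hjk, sub_eq_zero.1 ((map_sub _ _ _).symm.trans e)⟩
  · refine isColimit_of _ _ (fun (x : C') => ?_) fun j y z h => ?_
    · obtain ⟨k, -, hC, -⟩ := exists_iidx (f := f) ∅ {x} ⊥ ⊥ Submodule.fg_bot Submodule.fg_bot bot_le bot_le
      exact ⟨k, Ideal.Quotient.mk _ (X ⟨x, hC (Finset.mem_singleton_self x)⟩),
        aeval_X (R := A) (fun y : ↥k.sC => (y : C')) ⟨x, hC (Finset.mem_singleton_self x)⟩⟩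
    · obtain ⟨p, hp⟩ := Ideal.Quotient.mk_surjective (I := j.L) (y - z)
      have h0 : ev j.sC p = 0 := by
        show cC j (Ideal.Quotient.mk _ p) = 0
        rw [hp]
        exact (map_sub _ _ _).trans (sub_eq_zero.2 h)
      obtain ⟨k, hB, hC, e1, e2⟩ := exists_iidx (f := f) j.sB j.sC j.I (j.L ⊔ Ideal.span {p})
        j.hI (Submodule.FG.sup j.hL (Submodule.fg_span_singleton p)) j.kI
        (sup_le j.kL (by rw [Ideal.span_le, Set.singleton_subset_iff]; exact h0))
      have hjk : j ≤ k := ⟨hB, hC, Ideal.map_le_iff_le_comap.1 e1,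
        fun x hx => e2 (Ideal.mem_map_of_mem _ (Ideal.mem_sup_left hx))⟩
      have e : mapC hjk (y - z) = 0 := by
        rw [← hp]
        exact Ideal.Quotient.eq_zero_iff_mem.2
          (e2 (Ideal.mem_map_of_mem _ (Ideal.mem_sup_right (Ideal.mem_span_singleton_self p))))
      exact ⟨k, hjk, sub_eq_zero.1 ((map_sub _ _ _).symm.trans e)⟩
  · ext x; exact AlgHom.congr_fun (cC_hom j) x
  · exact RingHom.finite_algebraMap.2 (finB j)
  · have : Algebra.FinitePresentation A j.RB := Algebra.FinitePresentation.quotient j.hI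
    exact fp_hom
  · exact RingHom.finite_algebraMap.2 (finC j)
  · have : Algebra.FinitePresentation A j.RC := Algebra.FinitePresentation.quotient j.hL
    exact fp_hom
  all_goals
    have sB : Function.Surjective (algebraMap A B) → ∀ j : IIdx f,
        Function.Surjective (algebraMap A j.RB) :=
      fun hs j => surjective_of_vars _ (j.props.surjAB hs)
    have sC : Function.Surjective (algebraMap A C') → ∀ j : IIdx f,
        Function.Surjective (algebraMap A j.RC) :=
      fun hs j => surjective_of_vars _ (j.props.surjAC hs)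
    have sT : Function.Surjective f → ∀ j : IIdx f, Function.Surjective j.hom := by
      intro hs j y
      obtain ⟨y, rfl⟩ := Ideal.Quotient.mk_surjective y
      have : Ideal.Quotient.mk j.L y ∈ j.hom.range := by
        induction y using MvPolynomial.induction_on with
        | C r => exact ⟨algebraMap A _ r, j.hom.commutes r⟩
        | add p q hp hq => rw [map_add]; exact add_mem hp hq
        | mul_X p d hp =>
          rw [map_mul]
          refine mul_mem hp ?_
          obtain ⟨p', hp'⟩ := j.props.surjBC hs d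
          exact ⟨Ideal.Quotient.mk _ p', (Ideal.Quotient.eq.2 hp').symm⟩
      exact this
  · exact sB
  · exact sT
  · exact sC
  · exact fun hs hn j => ⟨sB hs j, ker_nilpotent _ (cB j).toRingHom _ (cB j).comp_algebraMap hn⟩
  · refine fun hs hn j => ⟨sT hs j, ?_⟩
    obtain ⟨n, hn'⟩ := j.props.nilBC hs hn
    refine ⟨n, ?_⟩
    have hle : RingHom.ker (j.hom : j.RB →+* j.RC) ≤
        (j.L.comap (phi f j.hl)).map (Ideal.Quotient.mk j.I) := by
      intro y hy
      obtain ⟨y, rfl⟩ := Ideal.Quotient.mk_surjective y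
      exact Ideal.mem_map_of_mem _ (Ideal.mem_comap.2 (Ideal.Quotient.eq_zero_iff_mem.1
        (show Ideal.Quotient.mk j.L (phi f j.hl y) = 0 from hy)))
    rw [Submodule.zero_eq_bot, eq_bot_iff]
    refine (Ideal.pow_right_mono hle n).trans ?_
    rw [← Ideal.map_pow]
    refine Ideal.map_le_iff_le_comap.2 ?_
    exact fun y hy => Ideal.Quotient.eq_zero_iff_mem.2 (hn' hy)
  · exact fun hs hn j => ⟨sC hs j, ker_nilpotent _ (cC j).toRingHom _ (cC j).comp_algebraMap hn⟩

end Groth.Agent.LimFP
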