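import Groth.Agent.LimFP.Basic
import Mathlib.RingTheory.IntegralClosure.IsIntegralClosure.Basic
import Mathlib.RingTheory.IntegralClosure.IsIntegral.Basic
import Mathlib.Algebra.Polynomial.Lifts
import Mathlib.RingTheory.Nilpotent.Lemmas
import Mathlib.RingTheory.Adjoin.Basic

/-!
# A surjection with nil kernel under an algebra is a filtered colimit of finitely presented ones
-/

universe u

open CategoryTheory Limits MvPolynomial

noncomputable section

namespace Groth.Agent.LimFP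

variable {R B D D' : Type u} [CommRing R] [CommRing B] [CommRing D] [CommRing D'] [Algebra R B]
  [Algebra R D] [Algebra R D']

/-- Polynomials on a finite set of elements of an algebra. -/
abbrev MP (R : Type u) [CommRing R] {B : Type u} (s : Finset B) : Type u := MvPolynomial ↥s R

/-- Evaluation. -/
def ev (s : Finset B) : MP R s →ₐ[R] B := aeval fun x => (x : B)

/-- Inclusion. -/
def inc {s t : Finset B} (h : s ⊆ t) : MP R s →ₐ[R] MP R t := rename fun x => ⟨x.1, h x.2⟩

lemma inc_refl {s : Finset B} (p : MP R s) : inc (subset_refl s) p = p := rename_id_apply p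

lemma inc_trans {r s t : Finset B} (h : r ⊆ s) (h' : s ⊆ t) (p : MP R r) :
    inc h' (inc h p) = inc (h.trans h') p := rename_rename _ _ p

lemma ev_inc {s t : Finset B} (h : s ⊆ t) (p : MP R s) : ev t (inc h p) = ev s p :=
  aeval_rename _ _ p

variable (f : B →ₐ[R] D) (i : D' →ₐ[R] D) (ℓ : B → D')

/-- The map between the polynomial rings induced by the lift of `f`. -/
def phi {s : Finset B} {t : Finset D'} (h : ∀ b ∈ s, ℓ b ∈ t) : MP R s →ₐ[R] MP R t :=
  rename fun x => ⟨ℓ x.1, h _ x.2⟩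

lemma phi_inc {s s' : Finset B} {t t' : Finset D'} (h : ∀ b ∈ s, ℓ b ∈ t)
    (h' : ∀ b ∈ s', ℓ b ∈ t') (hs : s ⊆ s') (ht : t ⊆ t') (p : MP R s) :
    inc ht (phi ℓ h p) = phi ℓ h' (inc hs p) := by
  simp only [inc, phi, rename_rename]
  rfl

lemma ev_phi (hℓ : ∀ b, i (ℓ b) = f b) {s : Finset B} {t : Finset D'} (h : ∀ b ∈ s, ℓ b ∈ t)
    (p : MP R s) : i (ev t (phi ℓ h p)) = f (ev s p) := by
  have : (i.comp (ev t)).comp (phi ℓ h) = f.comp (ev s) :=
    algHom_ext fun x => by simp [phi, ev, hℓ]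
  exact AlgHom.congr_fun this p

/-- The optional properties at a finite level. -/
structure Props (sB : Finset B) (sD : Finset D') (h : ∀ b ∈ sB, ℓ b ∈ sD) (I : Ideal (MP R sB))
    (L : Ideal (MP R sD)) : Prop where
  surj : Function.Surjective f → ∀ d : ↥sD, ∃ p, X d - phi ℓ h p ∈ L
  nil : Function.Surjective f → (∀ x ∈ RingHom.ker f.toRingHom, IsNilpotent x) →
    L.comap (phi ℓ h) ≤ I.radical
  int : f.toRingHom.IsIntegral → ∀ d : ↥sD, ∃ p : Polynomial (MP R sB), p.Monic ∧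
    p.eval₂ (phi ℓ h).toRingHom (X d) ∈ L

/-- The index set. -/
structure Idx where
  sB : Finset B
  sD : Finset D'
  hl : ∀ b ∈ sB, ℓ b ∈ sD
  I : Ideal (MP R sB)
  J : Ideal (MP R sD)
  L : Ideal (MP R sD)
  hI : I.FG
  hJ : J.FG
  hL : L.FG
  kI : I ≤ RingHom.ker (ev sB)
  kJ : J ≤ RingHom.ker (ev sD)
  kL : L ≤ RingHom.ker (i.comp (ev sD))
  hJL : J ≤ L
  hrad : L ≤ J.radical
  hIL : I.map (phi ℓ hl) ≤ L
  props : Props f ℓ sB sD hl I L

/-- Lift a monic polynomial to the finite level. -/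
theorem exists_liftPoly (hℓ : ∀ b, i (ℓ b) = f b) (sB : Finset B) (sD : Finset D')
    (hl : ∀ b ∈ sB, ℓ b ∈ sD) (d : ↥sD) (q : Polynomial B)
    (hc : ∀ n, n ≤ q.natDegree → q.coeff n ∈ sB) (hm : q.Monic)
    (h0 : q.eval₂ f.toRingHom (i d) = 0) :
    ∃ p : Polynomial (MP R sB), p.Monic ∧
      (i.comp (ev sD)) (p.eval₂ (phi ℓ hl).toRingHom (X d)) = 0 := by
  have hlift : q ∈ Polynomial.lifts (ev (R := R) sB).toRingHom := by
    rw [Polynomial.lifts_iff_coeff_lifts]
    intro n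
    by_cases hn : n ≤ q.natDegree
    · exact ⟨X ⟨_, hc n hn⟩, by simp [ev]⟩
    · exact ⟨0, by rw [map_zero, Polynomial.coeff_eq_zero_of_natDegree_lt (not_le.1 hn)]⟩
  obtain ⟨p, hp, -, hpm⟩ := Polynomial.lifts_and_natDegree_eq_and_monic hlift hm
  refine ⟨p, hpm, ?_⟩
  have h2 := Polynomial.hom_eval₂ p (phi ℓ hl).toRingHom (i.comp (ev sD)).toRingHom (X d)
  refine h2.trans ?_
  have h3 : (i.comp (ev sD)).toRingHom.comp (phi ℓ hl).toRingHom =
      f.toRingHom.comp (ev sB).toRingHom := RingHom.ext fun x => ev_phi f i ℓ hℓ hl x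
  have h4 : (i.comp (ev sD)).toRingHom (X d) = i d := by simp [ev]
  rw [h3, h4, ← Polynomial.eval₂_map, hp]
  exact h0

variable {f i ℓ}

instance : LE (Idx f i ℓ) := ⟨fun a b => ∃ (hB : a.sB ⊆ b.sB) (hD : a.sD ⊆ b.sD),
  a.I ≤ b.I.comap (inc hB) ∧ a.J ≤ b.J.comap (inc hD) ∧ a.L ≤ b.L.comap (inc hD)⟩

instance : Preorder (Idx f i ℓ) where
  le := (· ≤ ·)
  le_refl a := ⟨subset_refl _, subset_refl _,
    fun x hx => by rw [Ideal.mem_comap, inc_refl]; exact hx,
    fun x hx => by rw [Ideal.mem_comap, inc_refl]; exact hx,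
    fun x hx => by rw [Ideal.mem_comap, inc_refl]; exact hx⟩
  le_trans a b c := by
    rintro ⟨h1, h2, e1, e2, e3⟩ ⟨h1', h2', e1', e2', e3'⟩
    exact ⟨h1.trans h1', h2.trans h2',
      fun x hx => by rw [Ideal.mem_comap, ← inc_trans h1 h1']; exact e1' (e1 hx),
      fun x hx => by rw [Ideal.mem_comap, ← inc_trans h2 h2']; exact e2' (e2 hx),
      fun x hx => by rw [Ideal.mem_comap, ← inc_trans h2 h2']; exact e3' (e3 hx)⟩

/-- Every finite datum is dominated by an index. -/
theorem exists_idx (hi : Function.Surjective i)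
    (hnil : ∀ x ∈ RingHom.ker i.toRingHom, IsNilpotent x) (hℓ : ∀ b, i (ℓ b) = f b)
    (sB : Finset B) (sD : Finset D') (I : Ideal (MP R sB)) (J L : Ideal (MP R sD))
    (hI : I.FG) (hJ : J.FG) (hL : L.FG) (kI : I ≤ RingHom.ker (ev sB))
    (kJ : J ≤ RingHom.ker (ev sD)) (kL : L ≤ RingHom.ker (i.comp (ev sD))) :
    ∃ (k : Idx f i ℓ) (hB : sB ⊆ k.sB) (hD : sD ⊆ k.sD),
      I.map (inc hB) ≤ k.I ∧ J.map (inc hD) ≤ k.J ∧ L.map (inc hD) ≤ k.L := by
  classical
  let g : D → B := fun d => if h : ∃ b, f b = d then h.choose else 0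
  have hg : Function.Surjective f → ∀ d, f (g d) = d := fun hs d => by
    simp only [g, dif_pos (hs d)]; exact (hs d).choose_spec
  have hpoly : ∀ d : D', ∃ q : Polynomial B, f.toRingHom.IsIntegral →
      q.Monic ∧ q.eval₂ f.toRingHom (i d) = 0 := fun d => by
    by_cases hint : f.toRingHom.IsIntegral
    · obtain ⟨q, hq⟩ := hint (i d)
      exact ⟨q, fun _ => hq⟩
    · exact ⟨0, fun h => absurd h hint⟩
  choose q hq using hpoly
  let sB' : Finset B := sB ∪ sD.image (fun d => g (i d)) ∪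
    sD.biUnion (fun d => (Finset.range ((q d).natDegree + 1)).image (q d).coeff)
  let sD' : Finset D' := sD ∪ sB'.image ℓ
  have hBB : sB ⊆ sB' := fun x hx => Finset.mem_union_left _ (Finset.mem_union_left _ hx)
  have hgB : ∀ d ∈ sD, g (i d) ∈ sB' := fun d hd =>
    Finset.mem_union_left _ (Finset.mem_union_right _ (Finset.mem_image_of_mem _ hd))
  have hqB : ∀ d ∈ sD, ∀ n, n ≤ (q d).natDegree → (q d).coeff n ∈ sB' := fun d hd n hn =>
    Finset.mem_union_right _ (Finset.mem_biUnion.2 ⟨d, hd,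
      Finset.mem_image_of_mem _ (Finset.mem_range.2 (Nat.lt_succ_of_le hn))⟩)
  have hDD : sD ⊆ sD' := Finset.subset_union_left
  have hl : ∀ b ∈ sB', ℓ b ∈ sD' := fun b hb =>
    Finset.mem_union_right _ (Finset.mem_image_of_mem _ hb)
  have hcl : ∀ d : ↥sD', (d : D') ∈ sD ∨ ∃ b : ↥sB', ℓ b = (d : D') := by
    rintro ⟨d, hd⟩
    rcases Finset.mem_union.1 hd with h | h
    · exact Or.inl h
    · obtain ⟨b, hb, hbd⟩ := Finset.mem_image.1 h
      exact Or.inr ⟨⟨b, hb⟩, hbd⟩
  clear_value sB' sD'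
  let evD : MP R sD' →ₐ[R] D := i.comp (ev sD')
  -- elements to put in `L`
  have hel : ∀ d : ↥sD', ∃ (a : MP R sD') (c : MP R sD'), evD a = 0 ∧ evD c = 0 ∧
      (Function.Surjective f → ∃ p, a = X d - phi ℓ hl p) ∧
      (f.toRingHom.IsIntegral → ∃ p : Polynomial (MP R sB'), p.Monic ∧
        c = p.eval₂ (phi ℓ hl).toRingHom (X d)) := by
    intro d
    rcases hcl d with hd | ⟨b, hb⟩
    · by_cases hs : Function.Surjective f
      · have ha : evD (X d - phi ℓ hl (X ⟨g (i d), hgB _ hd⟩)) = 0 := by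
          simp [evD, phi, ev, hℓ, hg hs]
        by_cases hint : f.toRingHom.IsIntegral
        · obtain ⟨p, hpm, hc⟩ := exists_liftPoly f i ℓ hℓ sB' sD' hl d (q d)
            (hqB _ hd) (hq _ hint).1 (hq _ hint).2
          exact ⟨_, _, ha, hc, fun _ => ⟨_, rfl⟩, fun _ => ⟨p, hpm, rfl⟩⟩
        · exact ⟨_, 0, ha, map_zero _, fun _ => ⟨_, rfl⟩, fun h => absurd h hint⟩
      · by_cases hint : f.toRingHom.IsIntegral
        · obtain ⟨p, hpm, hc⟩ := exists_liftPoly f i ℓ hℓ sB' sD' hl d (q d)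
            (hqB _ hd) (hq _ hint).1 (hq _ hint).2
          exact ⟨0, _, map_zero _, hc, fun h => absurd h hs, fun _ => ⟨p, hpm, rfl⟩⟩
        · exact ⟨0, 0, map_zero _, map_zero _, fun h => absurd h hs, fun h => absurd h hint⟩
    · have e : phi ℓ hl (X b) = (X d : MP R sD') := by
        simp only [phi, rename_X]; exact congrArg (MvPolynomial.X (R := R)) (Subtype.ext hb)
      refine ⟨0, 0, map_zero _, map_zero _, fun _ => ⟨X b, by rw [e, sub_self]⟩,
        fun _ => ⟨Polynomial.X - Polynomial.C (X b), Polynomial.monic_X_sub_C _, ?_⟩⟩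
      rw [Polynomial.eval₂_sub, Polynomial.eval₂_X, Polynomial.eval₂_C]
      show 0 = X d - phi ℓ hl (X b)
      rw [e, sub_self]
  choose a c ha hc hsa hic using hel
  let L1 : Ideal (MP R sD') := L.map (inc hDD) ⊔ J.map (inc hDD) ⊔
    (I.map (inc hBB)).map (phi ℓ hl) ⊔ Ideal.span (Set.range a ∪ Set.range c)
  have hL1 : L1.FG := by
    refine Submodule.FG.sup (Submodule.FG.sup (Submodule.FG.sup (hL.map _) (hJ.map _))
      ((hI.map _).map _)) ?_
    exact Submodule.fg_span ((Set.finite_range _).union (Set.finite_range _))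
  have kL1 : L1 ≤ RingHom.ker evD := by
    refine sup_le (sup_le (sup_le ?_ ?_) ?_) ?_
    · rw [Ideal.map_le_iff_le_comap]
      intro x hx
      show evD (inc hDD x) = 0
      simp only [evD, AlgHom.comp_apply, ev_inc]
      exact kL hx
    · rw [Ideal.map_le_iff_le_comap]
      intro x hx
      show evD (inc hDD x) = 0
      simp only [evD, AlgHom.comp_apply, ev_inc]
      rw [show ev sD x = 0 from kJ hx, map_zero]
    · rw [Ideal.map_le_iff_le_comap, Ideal.map_le_iff_le_comap]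
      intro x hx
      show evD (phi ℓ hl (inc hBB x)) = 0
      simp only [evD, AlgHom.comp_apply, ev_phi f i ℓ hℓ, ev_inc]
      rw [show ev sB x = 0 from kI hx, map_zero]
    · rw [Ideal.span_le]
      rintro _ (⟨d, rfl⟩ | ⟨d, rfl⟩)
      exacts [ha d, hc d]
  -- powers of generators of `L1` in the kernel of `ev`
  obtain ⟨G, hG⟩ := hL1
  have hpow : ∀ x : ↥G, ∃ n : ℕ, ev sD' ((x : MP R sD') ^ (n + 1)) = 0 := fun x => by
    have hx : evD x = 0 := kL1 (hG ▸ Ideal.subset_span x.2)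
    obtain ⟨n, hn⟩ := hnil (ev sD' (x : MP R sD')) hx
    exact ⟨n, by rw [map_pow, pow_succ, hn, zero_mul]⟩
  choose N hN using hpow
  let J1 : Ideal (MP R sD') := J.map (inc hDD) ⊔
    Ideal.span (Set.range fun x : ↥G => (x : MP R sD') ^ (N x + 1))
  have hJ1 : J1.FG := Submodule.FG.sup (hJ.map _) (Submodule.fg_span (Set.finite_range _))
  have kJ1 : J1 ≤ RingHom.ker (ev sD') := by
    refine sup_le ?_ ?_
    · rw [Ideal.map_le_iff_le_comap]
      intro x hx
      show ev sD' (inc hDD x) = 0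
      rw [ev_inc]; exact kJ hx
    · rw [Ideal.span_le]
      rintro _ ⟨x, rfl⟩
      exact hN x
  have hJL1 : J1 ≤ L1 := by
    refine sup_le (le_sup_of_le_left (le_sup_of_le_left le_sup_right)) ?_
    rw [Ideal.span_le]
    rintro _ ⟨x, rfl⟩
    exact L1.pow_mem_of_mem (hG ▸ Ideal.subset_span x.2) _ (Nat.succ_pos _)
  have hrad : L1 ≤ J1.radical := by
    rw [← hG, Ideal.span_le]
    intro x hx
    exact ⟨_, Ideal.mem_sup_right (Ideal.subset_span ⟨⟨x, hx⟩, rfl⟩)⟩
  -- enlarge `I` to contain powers of the kernel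
  have hI1 : ∃ I1 : Ideal (MP R sB'), I1.FG ∧ I1 ≤ RingHom.ker (ev sB') ∧
      I.map (inc hBB) ≤ I1 ∧ I1.map (phi ℓ hl) ≤ L1 ∧
      (Function.Surjective f → (∀ x ∈ RingHom.ker f.toRingHom, IsNilpotent x) →
        L1.comap (phi ℓ hl) ≤ I1.radical) := by
    have k0 : I.map (inc hBB) ≤ RingHom.ker (ev sB') := by
      rw [Ideal.map_le_iff_le_comap]
      intro x hx
      show ev sB' (inc hBB x) = 0
      rw [ev_inc]; exact kI hx
    have m0 : (I.map (inc hBB)).map (phi ℓ hl) ≤ L1 :=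
      le_sup_of_le_left le_sup_right
    by_cases h : Function.Surjective f ∧ ∀ x ∈ RingHom.ker f.toRingHom, IsNilpotent x
    · obtain ⟨hs, hn⟩ := h
      have hLfg : L1.FG := ⟨G, hG⟩
      have : Algebra.FinitePresentation R (MP R sD' ⧸ L1) :=
        Algebra.FinitePresentation.quotient hLfg
      have hsurj : Function.Surjective ((Ideal.Quotient.mkₐ R L1).comp (phi ℓ hl)) := by
        rw [← AlgHom.range_eq_top, eq_top_iff, ← Algebra.range_id]
        rintro z -
        obtain ⟨z, rfl⟩ := Ideal.Quotient.mkₐ_surjective R L1 z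
        induction z using MvPolynomial.induction_on with
        | C r => exact ⟨C r, by simp [phi]⟩
        | add p p' hp hp' => rw [map_add]; exact add_mem hp hp'
        | mul_X p d hp =>
          rw [map_mul]
          refine mul_mem hp ?_
          obtain ⟨p', hp'⟩ := hsa d hs
          refine ⟨p', ?_⟩
          symm
          show Ideal.Quotient.mk L1 (X d) = Ideal.Quotient.mk L1 (phi ℓ hl p')
          rw [Ideal.Quotient.eq, ← hp']
          exact Ideal.mem_sup_right (Ideal.subset_span (Or.inl ⟨d, rfl⟩))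
      have hK : (L1.comap (phi ℓ hl)).FG := by
        have := Algebra.FinitePresentation.ker_fG_of_surjective _ hsurj
        have e : RingHom.ker ((Ideal.Quotient.mkₐ R L1).comp (phi ℓ hl)).toRingHom =
            L1.comap (phi ℓ hl) := by
          refine Ideal.ext fun x => ?_
          simp [RingHom.mem_ker, Ideal.Quotient.eq_zero_iff_mem]
        exact e ▸ this
      obtain ⟨H, hH⟩ := hK
      have hpow : ∀ x : ↥H, ∃ n : ℕ, ev sB' ((x : MP R sB') ^ (n + 1)) = 0 := fun x => by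
        have hx : phi ℓ hl (x : MP R sB') ∈ L1 := Ideal.mem_comap.1 (hH ▸ Ideal.subset_span x.2)
        have hx' : f (ev sB' (x : MP R sB')) = 0 := by
          rw [← ev_phi f i ℓ hℓ hl]; exact kL1 hx
        obtain ⟨n, hn'⟩ := hn (ev sB' (x : MP R sB')) hx'
        exact ⟨n, by rw [map_pow, pow_succ, hn', zero_mul]⟩
      choose M hM using hpow
      refine ⟨I.map (inc hBB) ⊔ Ideal.span (Set.range fun x : ↥H => (x : MP R sB') ^ (M x + 1)),
        Submodule.FG.sup (hI.map _) (Submodule.fg_span (Set.finite_range _)), sup_le k0 ?_, le_sup_left, ?_,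
        fun _ _ => ?_⟩
      · rw [Ideal.span_le]
        rintro _ ⟨x, rfl⟩
        exact hM x
      · rw [Ideal.map_sup]
        refine sup_le m0 ?_
        rw [Ideal.map_span, Ideal.span_le]
        rintro _ ⟨_, ⟨x, rfl⟩, rfl⟩
        rw [SetLike.mem_coe, map_pow]
        exact L1.pow_mem_of_mem (Ideal.mem_comap.1 (hH ▸ Ideal.subset_span x.2)) _ (Nat.succ_pos _)
      · rw [← hH, Ideal.span_le]
        intro x hx
        exact ⟨_, Ideal.mem_sup_right (Ideal.subset_span ⟨⟨x, hx⟩, rfl⟩)⟩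
    · exact ⟨_, hI.map _, k0, le_rfl, m0, fun hs hn => absurd ⟨hs, hn⟩ h⟩
  obtain ⟨I1, fI1, kI1, lI1, mI1, nI1⟩ := hI1
  refine ⟨{ sB := sB', sD := sD', hl := hl, I := I1, J := J1, L := L1, hI := fI1, hJ := hJ1,
            hL := ⟨G, hG⟩, kI := kI1, kJ := kJ1, kL := kL1, hJL := hJL1, hrad := hrad, hIL := mI1,
            props := ⟨fun hs d => ?_, nI1, fun hint d => ?_⟩ },
    hBB, hDD, lI1, le_sup_left, le_sup_of_le_left (le_sup_of_le_left le_sup_left)⟩
  · obtain ⟨p, hp⟩ := hsa d hs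
    exact ⟨p, hp ▸ Ideal.mem_sup_right (Ideal.subset_span (Or.inl ⟨d, rfl⟩))⟩
  · obtain ⟨p, hpm, hp⟩ := hic d hint
    exact ⟨p, hpm, hp ▸ Ideal.mem_sup_right (Ideal.subset_span (Or.inr ⟨d, rfl⟩))⟩

end Groth.Agent.LimFP
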