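import Groth.Agent.LimFP.NilPair

universe u

open CategoryTheory Limits MvPolynomial

noncomputable section

namespace Groth.Agent.LimFP

variable {R B D D' : Type u} [CommRing R] [CommRing B] [CommRing D] [CommRing D'] [Algebra R B]
  [Algebra R D] [Algebra R D'] {f : B →ₐ[R] D} {i : D' →ₐ[R] D} {ℓ : B → D'}

namespace Idx

abbrev RB (j : Idx f i ℓ) : Type u := MP R j.sB ⧸ j.I
abbrev RD (j : Idx f i ℓ) : Type u := MP R j.sD ⧸ j.L
abbrev RD' (j : Idx f i ℓ) : Type u := MP R j.sD ⧸ j.J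

/-- `B_j → D_j`. -/
def hom (j : Idx f i ℓ) : j.RB →ₐ[R] j.RD :=
  Ideal.quotientMapₐ _ (phi ℓ j.hl) (Ideal.map_le_iff_le_comap.1 j.hIL)

/-- `D'_j → D_j`. -/
def pr (j : Idx f i ℓ) : j.RD' →ₐ[R] j.RD :=
  Ideal.quotientMapₐ _ (AlgHom.id R _) (fun _ hx => j.hJL hx)

lemma hom_mk (j : Idx f i ℓ) (p : MP R j.sB) :
    j.hom (Ideal.Quotient.mk _ p) = Ideal.Quotient.mk _ (phi ℓ j.hl p) := rfl

lemma pr_mk (j : Idx f i ℓ) (p : MP R j.sD) :
    j.pr (Ideal.Quotient.mk _ p) = Ideal.Quotient.mk _ p := rfl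

variable {j k : Idx f i ℓ} (h : j ≤ k)

def mapB : j.RB →ₐ[R] k.RB := Ideal.quotientMapₐ _ (inc h.fst) h.snd.snd.1
def mapD : j.RD →ₐ[R] k.RD := Ideal.quotientMapₐ _ (inc h.snd.fst) h.snd.snd.2.2
def mapD' : j.RD' →ₐ[R] k.RD' := Ideal.quotientMapₐ _ (inc h.snd.fst) h.snd.snd.2.1

lemma mapB_mk (p : MP R j.sB) : mapB h (Ideal.Quotient.mk _ p) = Ideal.Quotient.mk _ (inc h.fst p) :=
  rfl
lemma mapD_mk (p : MP R j.sD) :
    mapD h (Ideal.Quotient.mk _ p) = Ideal.Quotient.mk _ (inc h.snd.fst p) := rfl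
lemma mapD'_mk (p : MP R j.sD) :
    mapD' h (Ideal.Quotient.mk _ p) = Ideal.Quotient.mk _ (inc h.snd.fst p) := rfl

lemma hom_mapB : k.hom.comp (mapB h) = (mapD h).comp j.hom := by
  refine Ideal.Quotient.algHom_ext R (AlgHom.ext fun p => ?_)
  show Ideal.Quotient.mk _ (phi ℓ k.hl (inc h.fst p)) =
    Ideal.Quotient.mk _ (inc h.snd.fst (phi ℓ j.hl p))
  rw [phi_inc ℓ j.hl k.hl h.fst h.snd.fst]

lemma pr_mapD' : k.pr.comp (mapD' h) = (mapD h).comp j.pr :=
  Ideal.Quotient.algHom_ext R (AlgHom.ext fun _ => rfl)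

def cB (j : Idx f i ℓ) : j.RB →ₐ[R] B := Ideal.Quotient.liftₐ _ (ev j.sB) fun _ hx => j.kI hx
def cD (j : Idx f i ℓ) : j.RD →ₐ[R] D :=
  Ideal.Quotient.liftₐ _ (i.comp (ev j.sD)) fun _ hx => j.kL hx
def cD' (j : Idx f i ℓ) : j.RD' →ₐ[R] D' := Ideal.Quotient.liftₐ _ (ev j.sD) fun _ hx => j.kJ hx

lemma cB_mapB : (cB k).comp (mapB h) = cB j :=
  Ideal.Quotient.algHom_ext R (AlgHom.ext fun p => ev_inc h.fst p)

lemma cD_mapD : (cD k).comp (mapD h) = cD j :=
  Ideal.Quotient.algHom_ext R (AlgHom.ext fun p => congrArg i (ev_inc h.snd.fst p))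

lemma cD'_mapD' : (cD' k).comp (mapD' h) = cD' j :=
  Ideal.Quotient.algHom_ext R (AlgHom.ext fun p => ev_inc h.snd.fst p)

lemma cD_pr (j : Idx f i ℓ) : (cD j).comp j.pr = i.comp (cD' j) :=
  Ideal.Quotient.algHom_ext R (AlgHom.ext fun _ => rfl)

lemma cD_hom (hℓ : ∀ b, i (ℓ b) = f b) (j : Idx f i ℓ) : (cD j).comp j.hom = f.comp (cB j) :=
  Ideal.Quotient.algHom_ext R (AlgHom.ext fun p => ev_phi f i ℓ hℓ j.hl p)

lemma mapB_refl (j : Idx f i ℓ) : mapB (le_refl j) = AlgHom.id R _ :=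
  Ideal.Quotient.algHom_ext R (AlgHom.ext fun p => by
    show Ideal.Quotient.mk _ (inc (subset_refl j.sB) p) = Ideal.Quotient.mk _ p
    rw [inc_refl])

lemma mapD_refl (j : Idx f i ℓ) : mapD (le_refl j) = AlgHom.id R _ :=
  Ideal.Quotient.algHom_ext R (AlgHom.ext fun p => by
    show Ideal.Quotient.mk _ (inc (subset_refl j.sD) p) = Ideal.Quotient.mk _ p
    rw [inc_refl])

lemma mapD'_refl (j : Idx f i ℓ) : mapD' (le_refl j) = AlgHom.id R _ :=
  Ideal.Quotient.algHom_ext R (AlgHom.ext fun p => by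
    show Ideal.Quotient.mk _ (inc (subset_refl j.sD) p) = Ideal.Quotient.mk _ p
    rw [inc_refl])

variable {l : Idx f i ℓ} (h' : k ≤ l)

lemma mapB_trans : mapB (h.trans h') = (mapB h').comp (mapB h) :=
  Ideal.Quotient.algHom_ext R (AlgHom.ext fun p => by
    show Ideal.Quotient.mk _ (inc (h.trans h').fst p) = Ideal.Quotient.mk _ (inc h'.fst (inc h.fst p))
    rw [inc_trans h.fst h'.fst])

lemma mapD_trans : mapD (h.trans h') = (mapD h').comp (mapD h) :=
  Ideal.Quotient.algHom_ext R (AlgHom.ext fun p => by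
    show Ideal.Quotient.mk _ (inc (h.trans h').snd.fst p) = Ideal.Quotient.mk _ (inc h'.snd.fst (inc h.snd.fst p))
    rw [inc_trans h.snd.fst h'.snd.fst])

lemma mapD'_trans : mapD' (h.trans h') = (mapD' h').comp (mapD' h) :=
  Ideal.Quotient.algHom_ext R (AlgHom.ext fun p => by
    show Ideal.Quotient.mk _ (inc (h.trans h').snd.fst p) = Ideal.Quotient.mk _ (inc h'.snd.fst (inc h.snd.fst p))
    rw [inc_trans h.snd.fst h'.snd.fst])

end Idx

open Idx

variable (f i ℓ)

def FB : Idx f i ℓ ⥤ Under (CommRingCat.of R) where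
  obj j := U j.RB
  map h := Uhom (mapB h.le)
  map_id j := by
    apply Uhom_ext; intro x
    exact AlgHom.congr_fun (mapB_refl j) x
  map_comp a b := by
    apply Uhom_ext; intro x
    exact AlgHom.congr_fun (mapB_trans a.le b.le) x

def FD : Idx f i ℓ ⥤ Under (CommRingCat.of R) where
  obj j := U j.RD
  map h := Uhom (mapD h.le)
  map_id j := by
    apply Uhom_ext; intro x
    exact AlgHom.congr_fun (mapD_refl j) x
  map_comp a b := by
    apply Uhom_ext; intro x
    exact AlgHom.congr_fun (mapD_trans a.le b.le) x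

def FD' : Idx f i ℓ ⥤ Under (CommRingCat.of R) where
  obj j := U j.RD'
  map h := Uhom (mapD' h.le)
  map_id j := by
    apply Uhom_ext; intro x
    exact AlgHom.congr_fun (mapD'_refl j) x
  map_comp a b := by
    apply Uhom_ext; intro x
    exact AlgHom.congr_fun (mapD'_trans a.le b.le) x

def FP : Idx f i ℓ ⥤ Under (CommRingCat.of R) where
  obj j := U (Pb j.hom j.pr)
  map h := Uhom (pbMap (mapB h.le) (mapD h.le) (mapD' h.le) (hom_mapB h.le) (pr_mapD' h.le))
  map_id j := by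
    apply Uhom_ext; intro x
    exact Subtype.ext (Prod.ext (AlgHom.congr_fun (mapB_refl j) _)
      (AlgHom.congr_fun (mapD'_refl j) _))
  map_comp a b := by
    apply Uhom_ext; intro x
    exact Subtype.ext (Prod.ext (AlgHom.congr_fun (mapB_trans a.le b.le) _)
      (AlgHom.congr_fun (mapD'_trans a.le b.le) _))

theorem isIntegral_hom {f : B →ₐ[R] D} {i : D' →ₐ[R] D} {ℓ : B → D'} (hint : f.toRingHom.IsIntegral)
    (j : Idx f i ℓ) : (j.hom : j.RB →+* j.RD).IsIntegral := by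
  intro y
  obtain ⟨y, rfl⟩ := Ideal.Quotient.mk_surjective y
  induction y using MvPolynomial.induction_on with
  | C r =>
    have e : Ideal.Quotient.mk j.L (C r) = (j.hom : j.RB →+* j.RD) (algebraMap R j.RB r) :=
      (j.hom.commutes r).symm
    rw [e]
    exact RingHom.isIntegralElem_map _
  | add p q hp hq => rw [map_add]; exact hp.add _ hq
  | mul_X p d hp =>
    rw [map_mul]
    refine hp.mul _ ?_
    obtain ⟨p', hm, hp'⟩ := j.props.int hint d
    refine ⟨p'.map (Ideal.Quotient.mk j.I), hm.map _, ?_⟩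
    rw [Polynomial.eval₂_map]
    refine (Polynomial.hom_eval₂ p' (phi ℓ j.hl).toRingHom (Ideal.Quotient.mk j.L)
      (X d)).symm.trans ?_
    exact Ideal.Quotient.eq_zero_iff_mem.2 hp'

theorem main (hi : Function.Surjective i) (hnil : ∀ x ∈ RingHom.ker i.toRingHom, IsNilpotent x)
    (hℓ : ∀ b, i (ℓ b) = f b)
    {P : Type u} [CommRing P] [Algebra R P] (q₁ : P →ₐ[R] B) (q₂ : P →ₐ[R] D')
    (hP : IsPullback (CommRingCat.ofHom q₁.toRingHom) (CommRingCat.ofHom q₂.toRingHom)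
      (CommRingCat.ofHom f.toRingHom) (CommRingCat.ofHom i.toRingHom)) :
    ∃ (ι : Type u) (_ : SmallCategory ι) (_ : IsFiltered ι)
      (DB DD DD' DP : ι ⥤ Under (CommRingCat.of R))
      (φ : DB ⟶ DD) (ψ : DD' ⟶ DD) (π₁ : DP ⟶ DB) (π₂ : DP ⟶ DD')
      (cB : DB ⟶ (Functor.const ι).obj (Under.mk (CommRingCat.ofHom (algebraMap R B))))
      (cD : DD ⟶ (Functor.const ι).obj (Under.mk (CommRingCat.ofHom (algebraMap R D))))
      (cD' : DD' ⟶ (Functor.const ι).obj (Under.mk (CommRingCat.ofHom (algebraMap R D'))))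
      (cP : DP ⟶ (Functor.const ι).obj (Under.mk (CommRingCat.ofHom (algebraMap R P)))),
      Nonempty (IsColimit (Cocone.mk _ cB)) ∧ Nonempty (IsColimit (Cocone.mk _ cD)) ∧
      Nonempty (IsColimit (Cocone.mk _ cD')) ∧ Nonempty (IsColimit (Cocone.mk _ cP)) ∧
      (∀ j, (φ.app j).right ≫ (cD.app j).right = (cB.app j).right ≫ CommRingCat.ofHom f.toRingHom) ∧
      (∀ j, (ψ.app j).right ≫ (cD.app j).right = (cD'.app j).right ≫ CommRingCat.ofHom i.toRingHom) ∧
      (∀ j, (π₁.app j).right ≫ (cB.app j).right = (cP.app j).right ≫ CommRingCat.ofHom q₁.toRingHom) ∧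
      (∀ j, (π₂.app j).right ≫ (cD'.app j).right = (cP.app j).right ≫ CommRingCat.ofHom q₂.toRingHom) ∧
      (∀ j, (DB.obj j).hom.hom.FinitePresentation ∧ (DD.obj j).hom.hom.FinitePresentation ∧
        (DD'.obj j).hom.hom.FinitePresentation) ∧
      (∀ j, Function.Surjective (ψ.app j).right.hom ∧ ∀ x ∈ RingHom.ker (ψ.app j).right.hom, IsNilpotent x) ∧
      (∀ j, IsPullback (π₁.app j).right (π₂.app j).right (φ.app j).right (ψ.app j).right) ∧
      (Function.Surjective f → ∀ j, Function.Surjective (φ.app j).right.hom) ∧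
      (Function.Surjective f → (∀ x ∈ RingHom.ker f.toRingHom, IsNilpotent x) →
        ∀ j, Function.Surjective (φ.app j).right.hom ∧ ∀ x ∈ RingHom.ker (φ.app j).right.hom, IsNilpotent x) ∧
      (f.toRingHom.IsIntegral → ∀ j, (φ.app j).right.hom.IsIntegral) := by
  classical
  have hne : Nonempty (Idx f i ℓ) := by
    obtain ⟨k, -⟩ := exists_idx (f := f) (ℓ := ℓ) hi hnil hℓ ∅ ∅ ⊥ ⊥ ⊥ Submodule.fg_bot
      Submodule.fg_bot Submodule.fg_bot bot_le bot_le bot_le
    exact ⟨k⟩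
  have hdir : IsDirectedOrder (Idx f i ℓ) := ⟨fun a b => by
    have ka : (a.sB : Finset B) ⊆ a.sB ∪ b.sB := Finset.subset_union_left
    have kb : b.sB ⊆ a.sB ∪ b.sB := Finset.subset_union_right
    have la : a.sD ⊆ a.sD ∪ b.sD := Finset.subset_union_left
    have lb : b.sD ⊆ a.sD ∪ b.sD := Finset.subset_union_right
    obtain ⟨k, hB, hD, e1, e2, e3⟩ := exists_idx (f := f) (ℓ := ℓ) hi hnil hℓ (a.sB ∪ b.sB)
      (a.sD ∪ b.sD) (a.I.map (inc ka) ⊔ b.I.map (inc kb)) (a.J.map (inc la) ⊔ b.J.map (inc lb))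
      (a.L.map (inc la) ⊔ b.L.map (inc lb))
      (Submodule.FG.sup (a.hI.map _) (b.hI.map _)) (Submodule.FG.sup (a.hJ.map _) (b.hJ.map _))
      (Submodule.FG.sup (a.hL.map _) (b.hL.map _))
      (sup_le (Ideal.map_le_iff_le_comap.2 fun x hx => (ev_inc ka x).trans (a.kI hx))
        (Ideal.map_le_iff_le_comap.2 fun x hx => (ev_inc kb x).trans (b.kI hx)))
      (sup_le (Ideal.map_le_iff_le_comap.2 fun x hx => (ev_inc la x).trans (a.kJ hx))
        (Ideal.map_le_iff_le_comap.2 fun x hx => (ev_inc lb x).trans (b.kJ hx)))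
      (sup_le (Ideal.map_le_iff_le_comap.2 fun x hx => (congrArg i (ev_inc la x)).trans (a.kL hx))
        (Ideal.map_le_iff_le_comap.2 fun x hx => (congrArg i (ev_inc lb x)).trans (b.kL hx)))
    refine ⟨k, ⟨ka.trans hB, la.trans hD, ?_, ?_, ?_⟩, ⟨kb.trans hB, lb.trans hD, ?_, ?_, ?_⟩⟩
    · intro x hx
      rw [Ideal.mem_comap, ← inc_trans ka hB]
      exact e1 (Ideal.mem_map_of_mem _ (Ideal.mem_sup_left (Ideal.mem_map_of_mem _ hx)))
    · intro x hx
      rw [Ideal.mem_comap, ← inc_trans la hD]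
      exact e2 (Ideal.mem_map_of_mem _ (Ideal.mem_sup_left (Ideal.mem_map_of_mem _ hx)))
    · intro x hx
      rw [Ideal.mem_comap, ← inc_trans la hD]
      exact e3 (Ideal.mem_map_of_mem _ (Ideal.mem_sup_left (Ideal.mem_map_of_mem _ hx)))
    · intro x hx
      rw [Ideal.mem_comap, ← inc_trans kb hB]
      exact e1 (Ideal.mem_map_of_mem _ (Ideal.mem_sup_right (Ideal.mem_map_of_mem _ hx)))
    · intro x hx
      rw [Ideal.mem_comap, ← inc_trans lb hD]
      exact e2 (Ideal.mem_map_of_mem _ (Ideal.mem_sup_right (Ideal.mem_map_of_mem _ hx)))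
    · intro x hx
      rw [Ideal.mem_comap, ← inc_trans lb hD]
      exact e3 (Ideal.mem_map_of_mem _ (Ideal.mem_sup_right (Ideal.mem_map_of_mem _ hx)))⟩
  -- eventual vanishing
  have killB : ∀ (j : Idx f i ℓ) (p : j.RB), cB j p = 0 → ∃ (k : _) (h : j ≤ k), mapB h p = 0 := by
    intro j p hp
    obtain ⟨p, rfl⟩ := Ideal.Quotient.mk_surjective p
    obtain ⟨k, hB, hD, e1, e2, e3⟩ := exists_idx (f := f) (ℓ := ℓ) hi hnil hℓ j.sB j.sD
      (j.I ⊔ Ideal.span {p}) j.J j.L (Submodule.FG.sup j.hI (Submodule.fg_span_singleton p))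
      j.hJ j.hL (sup_le j.kI (by rw [Ideal.span_le, Set.singleton_subset_iff]; exact hp)) j.kJ j.kL
    refine ⟨k, ⟨hB, hD, fun x hx => e1 (Ideal.mem_map_of_mem _ (Ideal.mem_sup_left hx)),
      Ideal.map_le_iff_le_comap.1 e2, Ideal.map_le_iff_le_comap.1 e3⟩, ?_⟩
    rw [mapB_mk, Ideal.Quotient.eq_zero_iff_mem]
    exact e1 (Ideal.mem_map_of_mem _ (Ideal.mem_sup_right (Ideal.mem_span_singleton_self p)))
  have killD : ∀ (j : Idx f i ℓ) (p : j.RD), cD j p = 0 → ∃ (k : _) (h : j ≤ k), mapD h p = 0 := by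
    intro j p hp
    obtain ⟨p, rfl⟩ := Ideal.Quotient.mk_surjective p
    obtain ⟨k, hB, hD, e1, e2, e3⟩ := exists_idx (f := f) (ℓ := ℓ) hi hnil hℓ j.sB j.sD j.I j.J
      (j.L ⊔ Ideal.span {p}) j.hI j.hJ (Submodule.FG.sup j.hL (Submodule.fg_span_singleton p))
      j.kI j.kJ (sup_le j.kL (by rw [Ideal.span_le, Set.singleton_subset_iff]; exact hp))
    refine ⟨k, ⟨hB, hD, Ideal.map_le_iff_le_comap.1 e1, Ideal.map_le_iff_le_comap.1 e2,
      fun x hx => e3 (Ideal.mem_map_of_mem _ (Ideal.mem_sup_left hx))⟩, ?_⟩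
    rw [mapD_mk, Ideal.Quotient.eq_zero_iff_mem]
    exact e3 (Ideal.mem_map_of_mem _ (Ideal.mem_sup_right (Ideal.mem_span_singleton_self p)))
  have killD' : ∀ (j : Idx f i ℓ) (p : j.RD'), cD' j p = 0 →
      ∃ (k : _) (h : j ≤ k), mapD' h p = 0 := by
    intro j p hp
    obtain ⟨p, rfl⟩ := Ideal.Quotient.mk_surjective p
    obtain ⟨k, hB, hD, e1, e2, e3⟩ := exists_idx (f := f) (ℓ := ℓ) hi hnil hℓ j.sB j.sD j.I
      (j.J ⊔ Ideal.span {p}) j.L j.hI (Submodule.FG.sup j.hJ (Submodule.fg_span_singleton p)) j.hL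
      j.kI (sup_le j.kJ (by rw [Ideal.span_le, Set.singleton_subset_iff]; exact hp)) j.kL
    refine ⟨k, ⟨hB, hD, Ideal.map_le_iff_le_comap.1 e1,
      fun x hx => e2 (Ideal.mem_map_of_mem _ (Ideal.mem_sup_left hx)),
      Ideal.map_le_iff_le_comap.1 e3⟩, ?_⟩
    rw [mapD'_mk, Ideal.Quotient.eq_zero_iff_mem]
    exact e2 (Ideal.mem_map_of_mem _ (Ideal.mem_sup_right (Ideal.mem_span_singleton_self p)))
  have surjBD : ∀ (b : B) (d : D'), ∃ (j : Idx f i ℓ) (x : j.RB) (y : j.RD'),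
      cB j x = b ∧ cD' j y = d := by
    intro b d
    obtain ⟨k, hB, hD, -⟩ := exists_idx (f := f) (ℓ := ℓ) hi hnil hℓ {b} {d} ⊥ ⊥ ⊥ Submodule.fg_bot
      Submodule.fg_bot Submodule.fg_bot bot_le bot_le bot_le
    exact ⟨k, Ideal.Quotient.mk _ (X ⟨b, hB (Finset.mem_singleton_self b)⟩),
      Ideal.Quotient.mk _ (X ⟨d, hD (Finset.mem_singleton_self d)⟩),
      aeval_X _ _, aeval_X _ _⟩
  -- the fibre product
  have hcomm : f.comp q₁ = i.comp q₂ := AlgHom.ext fun x =>
    congrArg (fun g => (CommRingCat.Hom.hom g) x) hP.w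
  let Φ : P →ₐ[R] Pb f i := (q₁.prod q₂).codRestrict _ fun x => AlgHom.congr_fun hcomm x
  have hbij : Function.Bijective Φ := by
    have e := IsPullback.isoIsPullback (CommRingCat.of B) (CommRingCat.of D') hP (isPullback_pb f i)
    have h1 := IsPullback.isoIsPullback_hom_fst (CommRingCat.of B) (CommRingCat.of D') hP (isPullback_pb f i)
    have h2 := IsPullback.isoIsPullback_hom_snd (CommRingCat.of B) (CommRingCat.of D') hP (isPullback_pb f i)
    have heq : ∀ x, (IsPullback.isoIsPullback (CommRingCat.of B) (CommRingCat.of D') hP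
        (isPullback_pb f i)).hom.hom x = Φ x := fun x => Subtype.ext (Prod.ext
      (congrArg (fun g => (CommRingCat.Hom.hom g) x) h1)
      (congrArg (fun g => (CommRingCat.Hom.hom g) x) h2))
    have hb : Function.Bijective (IsPullback.isoIsPullback (CommRingCat.of B) (CommRingCat.of D') hP
        (isPullback_pb f i)).hom.hom :=
      (IsPullback.isoIsPullback (CommRingCat.of B) (CommRingCat.of D') hP
        (isPullback_pb f i)).commRingCatIsoToRingEquiv.bijective
    rwa [show (Φ : P → Pb f i) = _ from funext fun x => (heq x).symm]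
  let Ψ := AlgEquiv.ofBijective Φ hbij
  have hΨ : ∀ y, q₁ (Ψ.symm y) = (y : B × D').1 ∧ q₂ (Ψ.symm y) = (y : B × D').2 := fun y => by
    have := congrArg Subtype.val (Ψ.apply_symm_apply y)
    exact ⟨congrArg Prod.fst this, congrArg Prod.snd this⟩
  let cP : ∀ j : Idx f i ℓ, Pb j.hom j.pr →ₐ[R] P := fun j =>
    Ψ.symm.toAlgHom.comp (pbMap (cB j) (cD j) (cD' j) (cD_hom hℓ j).symm (cD_pr j).symm)
  haveI : IsFiltered (Idx f i ℓ) := isFiltered_of_directed_le_nonempty _
  refine ⟨Idx f i ℓ, inferInstance, inferInstance, FB f i ℓ, FD f i ℓ, FD' f i ℓ, FP f i ℓ,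
    { app := fun j => Uhom j.hom
      naturality := fun a b h => Uhom_ext fun x => AlgHom.congr_fun (hom_mapB h.le) x },
    { app := fun j => Uhom j.pr
      naturality := fun a b h => Uhom_ext fun x => AlgHom.congr_fun (pr_mapD' h.le) x },
    { app := fun j => Uhom (pbFst j.hom j.pr)
      naturality := fun a b h => Uhom_ext fun x => rfl },
    { app := fun j => Uhom (pbSnd j.hom j.pr)
      naturality := fun a b h => Uhom_ext fun x => rfl },
    { app := fun j => Uhom (cB j)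
      naturality := fun a b h => Uhom_ext fun x => AlgHom.congr_fun (cB_mapB h.le) x },
    { app := fun j => Uhom (cD j)
      naturality := fun a b h => Uhom_ext fun x => AlgHom.congr_fun (cD_mapD h.le) x },
    { app := fun j => Uhom (cD' j)
      naturality := fun a b h => Uhom_ext fun x => AlgHom.congr_fun (cD'_mapD' h.le) x },
    { app := fun j => Uhom (cP j)
      naturality := fun a b h => Uhom_ext fun x => congrArg Ψ.symm (Subtype.ext (Prod.ext
        (AlgHom.congr_fun (cB_mapB h.le) _) (AlgHom.congr_fun (cD'_mapD' h.le) _))) },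
    ?_, ?_, ?_, ?_, fun j => ?_, fun j => ?_, fun j => ?_, fun j => ?_, fun j => ⟨?_, ?_, ?_⟩,
    fun j => ⟨?_, ?_⟩, fun j => isPullback_pb j.hom j.pr, ?_, ?_, ?_⟩
  · refine isColimit_of _ _ (fun b => ?_) fun j y z h => ?_
    · obtain ⟨j, x, -, hx, -⟩ := surjBD b 0
      exact ⟨j, x, hx⟩
    · obtain ⟨k, hk, e⟩ := killB j (y - z) ((map_sub _ _ _).trans (sub_eq_zero.2 h))
      exact ⟨k, hk, sub_eq_zero.1 ((map_sub _ _ _).symm.trans e)⟩
  · refine isColimit_of _ _ (fun d => ?_) fun j y z h => ?_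
    · obtain ⟨d', rfl⟩ := hi d
      obtain ⟨j, -, x, -, hx⟩ := surjBD 0 d'
      exact ⟨j, j.pr x, (AlgHom.congr_fun (cD_pr j) x).trans (congrArg i hx)⟩
    · obtain ⟨k, hk, e⟩ := killD j (y - z) ((map_sub _ _ _).trans (sub_eq_zero.2 h))
      exact ⟨k, hk, sub_eq_zero.1 ((map_sub _ _ _).symm.trans e)⟩
  · refine isColimit_of _ _ (fun d => ?_) fun j y z h => ?_
    · obtain ⟨j, -, x, -, hx⟩ := surjBD 0 d
      exact ⟨j, x, hx⟩
    · obtain ⟨k, hk, e⟩ := killD' j (y - z) ((map_sub _ _ _).trans (sub_eq_zero.2 h))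
      exact ⟨k, hk, sub_eq_zero.1 ((map_sub _ _ _).symm.trans e)⟩
  · refine isColimit_of _ _ (fun (p : P) => ?_) fun j y z h => ?_
    · obtain ⟨j, x, y, hx, hy⟩ := surjBD (q₁ p) (q₂ p)
      have h0 : cD j (j.hom x - j.pr y) = 0 := by
        rw [map_sub, sub_eq_zero]
        calc cD j (j.hom x) = f (cB j x) := AlgHom.congr_fun (cD_hom hℓ j) x
          _ = i (cD' j y) := by rw [hx, hy]; exact AlgHom.congr_fun hcomm p
          _ = cD j (j.pr y) := (AlgHom.congr_fun (cD_pr j) y).symm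
      obtain ⟨k, hk, e⟩ := killD j _ h0
      have hmem : (mapB hk x, mapD' hk y) ∈ Pb k.hom k.pr := by
        show k.hom (mapB hk x) = k.pr (mapD' hk y)
        rw [show k.hom (mapB hk x) = mapD hk (j.hom x) from AlgHom.congr_fun (hom_mapB hk) x,
          show k.pr (mapD' hk y) = mapD hk (j.pr y) from AlgHom.congr_fun (pr_mapD' hk) y]
        exact sub_eq_zero.1 ((map_sub _ _ _).symm.trans e)
      refine ⟨k, ⟨_, hmem⟩, ?_⟩
      show Ψ.symm _ = p
      rw [AlgEquiv.symm_apply_eq]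
      exact Subtype.ext (Prod.ext ((AlgHom.congr_fun (cB_mapB hk) x).trans hx)
        ((AlgHom.congr_fun (cD'_mapD' hk) y).trans hy))
    · have h' := congrArg Subtype.val (Ψ.symm.injective h)
      have e1 : cB j (y.1.1 - z.1.1) = 0 :=
        (map_sub _ _ _).trans (sub_eq_zero.2 (congrArg Prod.fst h'))
      obtain ⟨k, hk, ek⟩ := killB j _ e1
      have e2 : cD' k (mapD' hk (y.1.2 - z.1.2)) = 0 :=
        (AlgHom.congr_fun (cD'_mapD' hk) _).trans
          ((map_sub _ _ _).trans (sub_eq_zero.2 (congrArg Prod.snd h')))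
      obtain ⟨l, hl, el⟩ := killD' k _ e2
      refine ⟨l, hk.trans hl, Subtype.ext (Prod.ext ?_ ?_)⟩
      · refine sub_eq_zero.1 ((map_sub (mapB (hk.trans hl)) _ _).symm.trans ?_)
        refine (AlgHom.congr_fun (mapB_trans hk hl) _).trans ?_
        exact (congrArg (mapB hl) ek).trans (map_zero _)
      · refine sub_eq_zero.1 ((map_sub (mapD' (hk.trans hl)) _ _).symm.trans ?_)
        exact (AlgHom.congr_fun (mapD'_trans hk hl) _).trans el
  · ext x; exact AlgHom.congr_fun (cD_hom hℓ j) x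
  · ext x; exact AlgHom.congr_fun (cD_pr j) x
  · ext x
    exact ((hΨ (pbMap (φ := j.hom) (ψ := j.pr) (φ₂ := f) (ψ₂ := i) (cB j) (cD j) (cD' j)
      (cD_hom hℓ j).symm (cD_pr j).symm x)).1).symm
  · ext x
    exact ((hΨ (pbMap (φ := j.hom) (ψ := j.pr) (φ₂ := f) (ψ₂ := i) (cB j) (cD j) (cD' j)
      (cD_hom hℓ j).symm (cD_pr j).symm x)).2).symm
  · haveI : Algebra.FinitePresentation R j.RB := Algebra.FinitePresentation.quotient j.hI
    exact fp_hom
  · haveI : Algebra.FinitePresentation R j.RD := Algebra.FinitePresentation.quotient j.hL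
    exact fp_hom
  · haveI : Algebra.FinitePresentation R j.RD' := Algebra.FinitePresentation.quotient j.hJ
    exact fp_hom
  · intro y
    obtain ⟨y, rfl⟩ := Ideal.Quotient.mk_surjective y
    exact ⟨Ideal.Quotient.mk _ y, rfl⟩
  · intro y hy
    obtain ⟨y, rfl⟩ := Ideal.Quotient.mk_surjective y
    obtain ⟨n, hn⟩ := j.hrad (Ideal.Quotient.eq_zero_iff_mem.1 hy)
    exact ⟨n, (map_pow _ _ _).symm.trans (Ideal.Quotient.eq_zero_iff_mem.2 hn)⟩
  all_goals
    have hs' : Function.Surjective f → ∀ j : Idx f i ℓ, Function.Surjective j.hom := by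
      intro hs j y
      obtain ⟨y, rfl⟩ := Ideal.Quotient.mk_surjective y
      have : Ideal.Quotient.mk j.L y ∈ j.hom.range := by
        induction y using MvPolynomial.induction_on with
        | C r => exact ⟨algebraMap R _ r, j.hom.commutes r⟩
        | add p q hp hq => rw [map_add]; exact add_mem hp hq
        | mul_X p d hp =>
          rw [map_mul]
          refine mul_mem hp ?_
          obtain ⟨p', hp'⟩ := j.props.surj hs d
          exact ⟨Ideal.Quotient.mk _ p', (Ideal.Quotient.eq.2 hp').symm⟩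
      exact this
  · exact hs'
  · intro hs hn j
    refine ⟨hs' hs j, fun y hy => ?_⟩
    obtain ⟨y, rfl⟩ := Ideal.Quotient.mk_surjective y
    obtain ⟨n, hn'⟩ := j.props.nil hs hn (Ideal.mem_comap.2 (Ideal.Quotient.eq_zero_iff_mem.1
      (show Ideal.Quotient.mk j.L (phi ℓ j.hl y) = 0 from hy)))
    exact ⟨n, (map_pow _ _ _).symm.trans (Ideal.Quotient.eq_zero_iff_mem.2 hn')⟩
  · exact fun hint j => isIntegral_hom hint j

end Groth.Agent.LimFP
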